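import Cfsg.Agent.BpExc.NChev
import Cfsg.Agent.BpExc.Asm

/-!
# Unipotent elements in the centralisers of toral elements of the finite groups of Lie type

`k` algebraically closed of characteristic `r`, locally finite, `D.group k` one of the Chevalley groups, `σ` a Frobenius
automorphism of `D.group k` (`IsFrob r e σ`, `e > 0`) which is a frame automorphism.

* `exists_unip` : `t ∈ TT D k`, `τ t = t`, `τ` preserves the positive roots of `Sx t ≠ ∅`: there is an `r`-element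
  `1 ≠ u` of `C(t)` fixed by `τ`;
* `exists_unip_fix` : `σ x = x`, `z x z⁻¹ ∈ TT D k`, `Sx (z x z⁻¹) ≠ ∅` : there is an `r`-element `1 ≠ u` of `C(x)` fixed
  by `σ`.
-/

set_option autoImplicit false
set_option linter.unusedSectionVars false

namespace Cfsg.Agent.H469.Exc

open CoxeterSystem Cfsg Cfsg.Lie Cfsg.Lie.ChevalleyDatum
open Cfsg.Agent.ChevalleyStructure Cfsg.Agent.ChevalleyStructure.Elts Cfsg.Agent.ChevalleyStructure.CoxeterGeom
  Cfsg.Agent.ChevalleyStructure.CoxeterGeomTypes Cfsg.Agent.ChevalleyStructure.NPerm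
open Cfsg.Agent.Tits.Roots Cfsg.Agent.Tits.Core Cfsg.Agent.Nodes Cfsg.Agent.Nodes.Reps Cfsg.Agent.Nodes.BNOf
  Cfsg.Agent.Nodes.RGDChev Cfsg.Agent.Nodes.Bruhat Cfsg.Agent.Nodes.NormalForm
open Cfsg.Agent.KFacts.RgdField Cfsg.Agent.KFacts.RgdChevCoord
open Cfsg.Agent.BpExc Cfsg.Agent.BpExc.TorCent Cfsg.Agent.BpExc.TorChev Cfsg.Agent.BpExc.Tow
  Cfsg.Agent.BpExc.TowChev Cfsg.Agent.BpExc.Fr Cfsg.Agent.BpExc.Pair Cfsg.Agent.BpExc.LangFr Cfsg.Agent.GpExc.Field
  Cfsg.Agent.BpExc.NInst Cfsg.Agent.BpExc.NChev Cfsg.Agent.BpExc.Asm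
open scoped commutatorElement

universe u v

variable {D : ChevalleyDatum} {l : ℕ} {M : CoxeterMatrix (Fin l)} (hp : IsType D l M) {k : Type u} [Field k]
  {W : Type v} [Group W] (cs : CoxeterSystem M W)

/-- **A fixed unipotent element in the centraliser of a toral element.** -/
theorem exists_unip [IsAlgClosed k] (hk : LocFin k) {r e : ℕ} [Fact r.Prime] [CharP k r]
    {t : ↥(D.group k)} (ht : t ∈ TT D k) (he : 0 < e) {τ : MulAut ↥(D.group k)}
    (hτ : IsFrob r e τ) {g : (Fin l → ℤ) ≃+ (Fin l → ℤ)} (F : Fr cs hp.isCartan (TT D k) (XX D l k) τ g)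
    (hτt : τ t = t) (hpos : ∀ a ∈ Sx cs hp.isCartan (ch hp) t, 0 ≤ a → 0 ≤ g a) [Finite ↥(fixC τ t)]
    (hne : (Sx cs hp.isCartan (ch hp) t).Nonempty) :
    ∃ u : ↥(D.group k), u ≠ 1 ∧ (∃ j, u ^ r ^ j = 1) ∧ u ∈ fixC τ t := by
  have := finite_W hp cs
  have H := tow (k := k) hp cs hk r
  have C := coordsL (k := k) hp cs hk r
  have hA := chAddL (k := k) hp cs hk r
  have hG := GG_eq_top (k := k) hp cs hk
  have hTL := TL_eq (k := k) hp hk
  have hXL := XL_eq (k := k) hp hk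
  have F' : Fr cs hp.isCartan (TL (Tj hp (k := k))) (XL (Xj hp (k := k))) τ g := by rw [hTL, hXL]; exact F
  have hsep : ∀ a, IsRoot cs hp.isCartan a → ∃ s ∈ TL (Tj hp (k := k)), ∀ u ∈ XL (Xj hp (k := k)) a,
      u * s = s * u → u = 1 := by
    rw [hTL, hXL]
    exact fun a ha => sep hp cs hk r ha
  -- the level
  obtain ⟨E1, hE1⟩ := HX.fr_level hp cs hk hτ F
  obtain ⟨E2, hE2⟩ := HX.exists_fixed_level hp cs hk he hτ F
  obtain ⟨E3, hE3⟩ := exists_TT hp hk ht
  obtain ⟨E4, hE4⟩ := exists_level_finite hp hk (S := (fixC τ t : Set ↥(D.group k))) (Set.toFinite _)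
  obtain ⟨E5, a1, a2⟩ := dir_lev hk E1 E2
  obtain ⟨E6, a3, a4⟩ := dir_lev hk E3 E4
  obtain ⟨E, b1, b2⟩ := dir_lev hk E5 E6
  have FE := hE1 E (a1.trans b1)
  have hX : ∀ a, Xj hp E a ≤ XX D l k a := fun a => by rw [← hXL]; exact le_XL E a
  have hT : Tj hp E ≤ TT D k := by rw [← hTL]; exact le_TL E
  obtain ⟨t', ht', htt⟩ := hE3 E (a3.trans b2)
  have htE : t ∈ Tj hp E := ⟨t', ht', htt⟩
  have Dt : Dat (H.rgd E) t (Sx cs hp.isCartan (ch hp) t) τ g :=
    { mem := htE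
      root := fun a ha => ha.1
      neg := fun a ha => chi_neg C ht hA ha
      cent := fun a ha => (hX a).trans (X_le_centralizer C ht ha)
      of_cent := fun a ha u hu hu1 hc => mem_Sx_of_centralizer C ht ha (hX a hu) hu1 hc
      fr := FE
      fix := hτt
      pos := hpos
      rp := fun w kk hkk => by
        obtain ⟨w', hw'⟩ := rp_fr H hG hsep F' (H.rp_up hkk)
        obtain ⟨k0, h0, h0'⟩ := H.exists_rp w'
        have h1 : k0⁻¹ * τ kk ∈ TT D k := by
          rw [← hTL]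
          exact h0'.unique hw'
        have h2 : k0⁻¹ * τ kk ∈ (emb hp.inList E.1.subtype).range := by
          rw [← GGj_eq hp cs]
          refine mul_mem (inv_mem ?_) (fr_GG FE ?_)
          · exact (mem_GG (H.rgd E)).2 ⟨w', cell_of_rp (h0 E)⟩
          · exact (mem_GG (H.rgd E)).2 ⟨w, cell_of_rp hkk⟩
        have h3 : k0⁻¹ * τ kk ∈ Tj hp E := (HX.mem_Tj hp cs hk r).2 ⟨h1, h2⟩
        have e : τ kk = k0 * (k0⁻¹ * τ kk) := by group
        exact ⟨w', by rw [e]; exact (h0 E).mul_mem_right h3⟩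
      comm := fun x hx y hy hxy hxy' a ha b hb => by
        have h1 := CommZ.comm_mem_Zj hp cs E hx.1 hy.1 hxy hxy' ha hb
        refine RGD.Sup_mono (S := CommZ.combZ cs hp x y) ?_ h1
        rintro z ⟨hz, i, j, hi, hj, e⟩
        obtain ⟨φ, h0, hadd, hφ⟩ := hA t ht
        have hn : ∀ (i : ℕ) (x : Fin l → ℤ), φ (i • x) = φ x ^ i := by
          intro i x
          induction i with
          | zero => rw [zero_smul, pow_zero, h0]
          | succ i ih => rw [succ_nsmul, hadd, ih, pow_succ]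
        refine ⟨⟨hz, ?_⟩, i, j, hi, hj, e⟩
        rw [hφ z hz, e, hadd, hn, hn, ← hφ x hx.1, ← hφ y hy.1, hx.2, hy.2, one_pow, one_pow, one_mul]
      fixed := fun a ha => hE2 E (a2.trans b1) a ha.1
      le := fun y hy => by
        rw [GGj_eq hp cs]
        exact hE4 E (a4.trans b2) hy }
  -- a positive root
  have hne' : (SP (Sx cs hp.isCartan (ch hp) t)).Nonempty := by
    obtain ⟨a, ha⟩ := hne
    rcases ha.1.pos_or_neg with h1 | h1
    · exact ⟨a, ha, h1⟩
    · exact ⟨-a, Dt.neg a ha, neg_nonneg.2 h1⟩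
  obtain ⟨u, hu, hu1, hτu⟩ := Dt.exists_fixed hne' subset_rfl
    (fun a ha => ⟨Dt.g_mem ha.1, Dt.pos a ha.1 ha.2⟩) (fun a ha b hb z hz ⟨i, j, hi, hj, e⟩ => ⟨hz, by
      rw [e]
      exact add_nonneg (nsmul_nonneg ha.2 i) (nsmul_nonneg hb.2 j)⟩)
  refine ⟨u, hu1, ?_, hτu, Subgroup.mem_centralizer_singleton_iff.1 (Dt.U_cent hu)⟩
  have h1 : IsPGroup r ↥(RGD.Sup (Xj hp E) (RGD.Pos cs hp.isCartan)) := by
    have hfin : Finite ↥(GG cs hp.isCartan (Tj hp E) (Xj hp E)) := finite_GG hp cs E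
    exact (H.rgd E).isPGroup_Upos
  obtain ⟨j, hj⟩ := h1 ⟨u, Dt.U_le hu⟩
  exact ⟨j, congrArg Subtype.val hj⟩

/-- **Unipotent elements in the centraliser of a toral element, in the finite group.** -/
theorem exists_unip_fix [IsAlgClosed k] (hk : LocFin k) {r e : ℕ} [Fact r.Prime] [CharP k r]
    {σ : MulAut ↥(D.group k)} {g : (Fin l → ℤ) ≃+ (Fin l → ℤ)} (he : 0 < e) (hσ : IsFrob r e σ)
    (Fσ : Fr cs hp.isCartan (TT D k) (XX D l k) σ g) [Finite ↥(fixedSubgroup σ)] {x : ↥(D.group k)}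
    (hσx : σ x = x) {z : ↥(D.group k)} (hz : z * x * z⁻¹ ∈ TT D k)
    (hne : (Sx cs hp.isCartan (ch hp) (z * x * z⁻¹)).Nonempty) :
    ∃ u : ↥(D.group k), u ≠ 1 ∧ (∃ j, u ^ r ^ j = 1) ∧ u ∈ fixC σ x := by
  have := finite_W hp cs
  have hTL := TL_eq (k := k) hp hk
  have hXL := XL_eq (k := k) hp hk
  have C := coordsL (k := k) hp cs hk r
  have hA := chAddL (k := k) hp cs hk r
  have hG := GG_eq_top (k := k) hp cs hk
  have Fσ' : Fr cs hp.isCartan (TL (Tj hp (k := k))) (XL (Xj hp (k := k))) σ g := by rw [hTL, hXL]; exact Fσ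
  set t : ↥(D.group k) := z * x * z⁻¹ with ht
  have ht' : t ∈ TL (Tj hp (k := k)) := by rw [hTL]; exact hz
  have C' : Coords cs hp.isCartan (TL (Tj hp (k := k))) (nc hp k) (XL (Xj hp (k := k))) (xc hp) (ch hp) := by
    rw [hTL, hXL]; exact C
  have hA' : ChAdd cs hp.isCartan (TL (Tj hp (k := k))) (ch (K := k) hp) := by rw [hTL]; exact hA
  obtain ⟨z', k', g', h1, h2, h3, h4, h5⟩ := pair_reduction (tow hp cs hk r) C' hA' hG Fσ' hσx (z := z⁻¹) (t := t)
    (by rw [ht]; group) ht' (fun k' g' F' htt m hm => by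
      have h1 := fun a => F'.mem_Sx C' ht' htt a
      rw [hTL, hXL] at F'
      rw [hXL] at hm ⊢
      exact lang_fr hp cs he (hσ.conj_mul k') F' (S := Sx cs hp.isCartan (ch hp) t) (fun a ha => ha.1)
        (fun a ha => (h1 a).2 ha) hm)
  rw [hTL, hXL] at h3
  have hfin := finite_conj h2
  have : Finite ↥(fixC (MulAut.conj k' * σ) t) := Finite.of_injective (Subgroup.inclusion (fixC_le _ _))
    (Subgroup.inclusion_injective _)
  obtain ⟨u, hu1, ⟨j, hj⟩, hu⟩ := exists_unip hp cs hk hz he (hσ.conj_mul k') h3 h4 h5 hne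
  refine ⟨(fixEquiv h1 h2 ⟨u, hu⟩ : ↥(D.group k)), fun h => hu1 ?_, ⟨j, ?_⟩, SetLike.coe_mem _⟩
  · have h6 : fixEquiv h1 h2 ⟨u, hu⟩ = 1 := Subtype.ext h
    rw [EmbeddingLike.map_eq_one_iff] at h6
    exact congrArg Subtype.val h6
  · rw [← Subgroup.coe_pow, ← map_pow]
    have h6 : (⟨u, hu⟩ : ↥(fixC (MulAut.conj k' * σ) t)) ^ r ^ j = 1 := Subtype.ext hj
    rw [h6, map_one]
    rfl

/-! ### commuting toral elements -/

/-- the character of a power -/
theorem ch_pow {r : ℕ} [Fact r.Prime] [CharP k r] (hk : LocFin k) {a : Fin l → ℤ} (ha : IsRoot cs hp.isCartan a)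
    {t : ↥(D.group k)} (ht : t ∈ TT D k) (m : ℕ) : ch hp a (t ^ m) = ch hp a t ^ m := by
  have C := coordsL (k := k) hp cs hk r
  induction m with
  | zero =>
    have h1 := (C.coord a ha).chi_mul (one_mem (TT D k)) (one_mem _)
    rw [mul_one] at h1
    rw [pow_zero, pow_zero]
    exact (mul_eq_left₀ ((C.coord a ha).chi_ne_zero (one_mem _))).1 h1.symm
  | succ m ih => rw [pow_succ, pow_succ, (C.coord a ha).chi_mul (pow_mem ht m) ht, ih]

/-- **Commuting elements of order `p ∤ |W|`, the first one toral: some product is toral and centralises a root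
group.** -/
theorem exists_common {r : ℕ} [Fact r.Prime] [CharP k r] (hk : LocFin k) {p : ℕ} (hpp : p.Prime)
    (hW : ¬ p ∣ Nat.card W) {α : Fin l → ℤ} (hα : IsRoot cs hp.isCartan α) {a b : ↥(D.group k)}
    (hab : a * b = b * a) (ha : a ^ p = 1) (hb : b ^ p = 1) {z : ↥(D.group k)} (hz : z * a * z⁻¹ ∈ TT D k) :
    (Sx cs hp.isCartan (ch hp) (z * a * z⁻¹)).Nonempty ∨
      ∃ i : ℕ, z * (b * a ^ i) * z⁻¹ ∈ TT D k ∧ (Sx cs hp.isCartan (ch hp) (z * (b * a ^ i) * z⁻¹)).Nonempty := by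
  have := finite_W hp cs
  have H := tow (k := k) hp cs hk r
  have hTL := TL_eq (k := k) hp hk
  have hXL := XL_eq (k := k) hp hk
  have C := coordsL (k := k) hp cs hk r
  have hA := chAddL (k := k) hp cs hk r
  have hG := GG_eq_top (k := k) hp cs hk
  have C' : Coords cs hp.isCartan (TL (Tj hp (k := k))) (nc hp k) (XL (Xj hp (k := k))) (xc hp) (ch hp) := by
    rw [hTL, hXL]; exact C
  set t : ↥(D.group k) := z * a * z⁻¹ with ht
  have ht' : t ∈ TL (Tj hp (k := k)) := by rw [hTL]; exact hz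
  have htp : t ^ p = 1 := by rw [ht, conj_pow, ha, mul_one, mul_inv_cancel]
  by_cases hne : (Sx cs hp.isCartan (ch hp) t).Nonempty
  · exact Or.inl hne
  right
  rw [Set.not_nonempty_iff_eq_empty] at hne
  -- the second element
  set s : ↥(D.group k) := z * b * z⁻¹ with hs
  have hsp : s ^ p = 1 := by rw [hs, conj_pow, hb, mul_one, mul_inv_cancel]
  have hst : s * t = t * s := by
    rw [hs, ht]
    calc z * b * z⁻¹ * (z * a * z⁻¹) = z * (b * a) * z⁻¹ := by group
      _ = z * (a * b) * z⁻¹ := by rw [hab]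
      _ = _ := by group
  obtain ⟨m, hm, w, c, hc, hct, hsc⟩ := Fr.exists_form H C' ht' ht' (c := s) (by rw [hG]; exact Subgroup.mem_top _) hst
  have hm1 : m = 1 := by
    unfold MM at hm
    rw [hne] at hm
    have h1 : RGD.Sup (XL (Xj hp (k := k))) (∅ : Set (Fin l → ℤ)) ≤ ⊥ :=
      RGD.Sup_le fun a ha => absurd ha (Set.notMem_empty a)
    exact Subgroup.mem_bot.1 (h1 hm)
  rw [hm1, one_mul] at hsc
  have hchi : ∀ a, IsRoot cs hp.isCartan a → ch hp a t ^ p = 1 := by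
    intro a ha
    rw [← ch_pow hp cs hk (r := r) ha hz, htp]
    have := ch_pow hp cs hk (r := r) ha (one_mem (TT D k)) 0
    rwa [pow_zero, pow_zero] at this
  have hw : w ∈ PP cs hp.isCartan (ch hp) t := by
    refine ⟨fun a ha => ?_, fun a ha => ?_⟩
    · have h1 := C'.chi_rp H.nsys hc ha ht'
      have h2 : c * t * c⁻¹ = t := by rw [hct]; group
      rwa [h2] at h1
    · rw [hne] at ha
      exact absurd ha (Set.notMem_empty a)
  have hPP : PP cs hp.isCartan (ch hp) t = ⊥ := by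
    have h1 := isPGroup_PP hA hz hpp hchi
    have : Fact p.Prime := ⟨hpp⟩
    obtain ⟨n, hn⟩ := IsPGroup.iff_card.1 h1
    have h2 : n = 0 := by
      by_contra h0
      exact hW ((dvd_pow_self p h0).trans (hn ▸ Subgroup.card_subgroup_dvd_card _))
    rw [h2, pow_zero] at hn
    exact Subgroup.card_eq_one.1 hn
  rw [hPP, Subgroup.mem_bot] at hw
  subst hw
  have hsT : s ∈ TT D k := by rw [hsc, ← hTL]; exact hc.mem_of_one
  -- the characters
  have hζ1 : ch hp α t ≠ 1 := by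
    intro h1
    have : α ∈ Sx cs hp.isCartan (ch hp) t := ⟨hα, h1⟩
    rw [hne] at this
    exact absurd this (Set.notMem_empty α)
  have hζ : IsPrimitiveRoot (ch hp α t) p := by
    have h1 : orderOf (ch hp α t) = p := by
      have : Fact p.Prime := ⟨hpp⟩
      exact orderOf_eq_prime (hchi α hα) hζ1
    rw [← h1]
    exact IsPrimitiveRoot.orderOf _
  have hω : ch hp α s ^ p = 1 := by
    rw [← ch_pow hp cs hk (r := r) hα hsT, hsp]
    have := ch_pow hp cs hk (r := r) hα (one_mem (TT D k)) 0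
    rwa [pow_zero, pow_zero] at this
  have : NeZero p := ⟨hpp.ne_zero⟩
  obtain ⟨i, -, hi⟩ := hζ.eq_pow_of_pow_eq_one (ξ := (ch hp α s)⁻¹) (by rw [inv_pow, hω, inv_one])
  have he : z * (b * a ^ i) * z⁻¹ = s * t ^ i := by
    rw [hs, ht, conj_pow]; group
  refine ⟨i, ?_, α, hα, ?_⟩
  · rw [he]; exact mul_mem hsT (pow_mem hz i)
  · rw [he, (C.coord α hα).chi_mul hsT (pow_mem hz i), ch_pow hp cs hk (r := r) hα hz, hi]
    exact mul_inv_cancel₀ ((C.coord α hα).chi_ne_zero hsT)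

end Cfsg.Agent.H469.Exc
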