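import Cfsg.Agent.H469.Exc.Unip
import Cfsg.Agent.S1092
import Cfsg.Agent.S1093

/-!
# Torus elements of order 5 and 7 of `E₆`, `E₇`, `E₈` are not regular

* `exists_Sx_of_chain` : vectors `v 0, …, v p` with differences roots: every `t ∈ TT D k`, `t ^ p = 1`, centralises a root
  group;
* `NonReg hp p` : `p ∤ |W|` or every `t ∈ TT D k`, `t ^ p = 1`, centralises a root group; `nonReg_*`.
-/

set_option autoImplicit false
set_option linter.unusedSectionVars false

namespace Cfsg.Agent.H469.Exc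

open CoxeterSystem Cfsg Cfsg.Lie Cfsg.Lie.ChevalleyDatum
open Cfsg.Agent.ChevalleyStructure Cfsg.Agent.ChevalleyStructure.Elts Cfsg.Agent.ChevalleyStructure.CoxeterGeom
  Cfsg.Agent.ChevalleyStructure.CoxeterGeomTypes Cfsg.Agent.ChevalleyStructure.NPerm
open Cfsg.Agent.Tits.Roots Cfsg.Agent.Tits.Core Cfsg.Agent.Nodes Cfsg.Agent.Nodes.Reps Cfsg.Agent.Nodes.BNOf
  Cfsg.Agent.Nodes.RGDChev Cfsg.Agent.Nodes.Bruhat Cfsg.Agent.Nodes.NormalForm
open Cfsg.Agent.KFacts.RgdField Cfsg.Agent.KFacts.RgdChevCoord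
open Cfsg.Agent.BpExc Cfsg.Agent.BpExc.TorCent Cfsg.Agent.BpExc.TorChev Cfsg.Agent.BpExc.Tow
  Cfsg.Agent.BpExc.TowChev Cfsg.Agent.BpExc.Fr Cfsg.Agent.BpExc.Pair Cfsg.Agent.BpExc.LangFr Cfsg.Agent.GpExc.Field

universe u v

variable {D : ChevalleyDatum} {l : ℕ} {M : CoxeterMatrix (Fin l)} (hp : IsType D l M) {k : Type u} [Field k]
  {W : Type v} [Group W] (cs : CoxeterSystem M W)

theorem exists_Sx_of_chain {r : ℕ} [Fact r.Prime] [CharP k r] (hk : LocFin k) {p : ℕ} (hpp : p.Prime)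
    (v : Fin (p + 1) → (Fin l → ℤ)) (hv : ∀ i j, i < j → IsRoot cs hp.isCartan (v j - v i))
    {t : ↥(D.group k)} (ht : t ∈ TT D k) (htp : t ^ p = 1) : (Sx cs hp.isCartan (ch hp) t).Nonempty := by
  obtain ⟨φ, h0, hadd, hφ⟩ := chAddL (k := k) hp cs hk r t ht
  have hchi : ∀ a, IsRoot cs hp.isCartan a → ch hp a t ^ p = 1 := by
    intro a ha
    rw [← ch_pow hp cs hk (r := r) ha ht, htp]
    have := ch_pow hp cs hk (r := r) ha (one_mem (TT D k)) 0
    rwa [pow_zero, pow_zero] at this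
  let f : Fin (p + 1) → k := fun i => φ (v i - v 0)
  have hf : ∀ i, f i ^ p = 1 := by
    intro i
    rcases eq_or_ne i 0 with rfl | hi
    · change φ (v 0 - v 0) ^ p = 1
      rw [sub_self, h0, one_pow]
    · change φ (v i - v 0) ^ p = 1
      have h1 := hv 0 i (Fin.pos_iff_ne_zero.2 hi)
      rw [← hφ _ h1]
      exact hchi _ h1
  have hf0 : ∀ i, f i ≠ 0 := fun i h => by
    have := hf i
    rw [h, zero_pow hpp.ne_zero] at this
    exact zero_ne_one this
  have key : ∃ i j, i < j ∧ f i = f j := by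
    classical
    have h1 : ((Polynomial.nthRootsFinset p (1 : k))).card < (Finset.univ : Finset (Fin (p + 1))).card := by
      rw [Finset.card_univ, Fintype.card_fin]
      refine Nat.lt_succ_of_le ?_
      rw [Polynomial.nthRootsFinset_def]
      exact le_trans (Multiset.toFinset_card_le _) (Polynomial.card_nthRoots p 1)
    obtain ⟨i, -, j, -, hij, he⟩ := Finset.exists_ne_map_eq_of_card_lt_of_maps_to h1
      (f := f) (fun i _ => by
        rw [Finset.mem_coe, Polynomial.mem_nthRootsFinset hpp.pos]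
        exact hf i)
    rcases lt_or_gt_of_ne hij with h2 | h2
    · exact ⟨i, j, h2, he⟩
    · exact ⟨j, i, h2, he.symm⟩
  obtain ⟨i, j, hij, he⟩ := key
  refine ⟨v j - v i, hv i j hij, ?_⟩
  rw [hφ _ (hv i j hij)]
  have h1 : f j = φ (v j - v i) * f i := by
    change φ (v j - v 0) = φ (v j - v i) * φ (v i - v 0)
    rw [← hadd]
    congr 1
    abel
  rw [he] at h1
  exact (mul_eq_right₀ (hf0 j)).1 h1.symm

/-- `p ∤ |W|`, or every torus element of order `p` centralises a root group -/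
def NonReg (hp : IsType D l M) (p : ℕ) : Prop :=
  ¬ p ∣ Nat.card M.Group ∨ ∀ (k : Type) [Field k] (r : ℕ) [Fact r.Prime] [CharP k r], LocFin k →
    ∀ t ∈ TT D k, t ^ p = 1 → (Sx M.toCoxeterSystem hp.isCartan (ch hp) t).Nonempty

theorem nonReg_of_chain {p : ℕ} (hpp : p.Prime) (v : Fin (p + 1) → (Fin l → ℤ))
    (hv : ∀ i j, i < j → ∃ s < D.nroots, vec D l s = v j - v i) : NonReg hp p := by
  refine Or.inr fun k _ r _ _ hk t ht htp => ?_
  exact exists_Sx_of_chain hp M.toCoxeterSystem (r := r) hk hpp v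
    (fun i j hij => (isRoot_iff hp M.toCoxeterSystem _).2 (hv i j hij)) ht htp

/-! ### the chains -/

/-- partial sums of a chain of type `A₅` of simple roots -/
def c5 (l : ℕ) : Fin 6 → (Fin l → ℤ) := fun j i =>
  if (i.val = 0 ∧ 1 ≤ j.val) ∨ (i.val = 2 ∧ 2 ≤ j.val) ∨ (i.val = 3 ∧ 3 ≤ j.val) ∨ (i.val = 4 ∧ 4 ≤ j.val) ∨
    (i.val = 5 ∧ 5 ≤ j.val) then 1 else 0

/-- partial sums of a chain of type `A₇` of simple roots of `E₈` -/
def c8 : Fin 8 → (Fin 8 → ℤ) := fun j i =>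
  if (i.val = 0 ∧ 1 ≤ j.val) ∨ (i.val = 2 ∧ 2 ≤ j.val) ∨ (i.val = 3 ∧ 3 ≤ j.val) ∨ (i.val = 4 ∧ 4 ≤ j.val) ∨
    (i.val = 5 ∧ 5 ≤ j.val) ∨ (i.val = 6 ∧ 6 ≤ j.val) ∨ (i.val = 7 ∧ 7 ≤ j.val) then 1 else 0

/-- partial sums of a chain of type `A₇` of roots of `E₇`, the first one the lowest root -/
def c7 : Fin 8 → (Fin 7 → ℤ) := fun j i =>
  (if 1 ≤ j.val then -(![2, 2, 3, 4, 3, 2, 1] : Fin 7 → ℤ) i else 0) +
  if (i.val = 0 ∧ 2 ≤ j.val) ∨ (i.val = 2 ∧ 3 ≤ j.val) ∨ (i.val = 3 ∧ 4 ≤ j.val) ∨ (i.val = 4 ∧ 5 ≤ j.val) ∨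
    (i.val = 5 ∧ 6 ≤ j.val) ∨ (i.val = 6 ∧ 7 ≤ j.val) then 1 else 0

theorem chk6 : ∀ i j : Fin 6, i < j → ∃ s < chevE6.nroots, vec chevE6 6 s = c5 6 j - c5 6 i := by decide +kernel

theorem chk75 : ∀ i j : Fin 6, i < j → ∃ s < chevE7.nroots, vec chevE7 7 s = c5 7 j - c5 7 i := by decide +kernel

theorem chk77 : ∀ i j : Fin 8, i < j → ∃ s < chevE7.nroots, vec chevE7 7 s = c7 j - c7 i := by decide +kernel

theorem chk85 : ∀ i j : Fin 6, i < j → ∃ s < chevE8.nroots, vec chevE8 8 s = c5 8 j - c5 8 i := by decide +kernel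

theorem chk87 : ∀ i j : Fin 8, i < j → ∃ s < chevE8.nroots, vec chevE8 8 s = c8 j - c8 i := by decide +kernel

/-- partial sums of a chain of type `A₃` -/
def c3 (l : ℕ) : Fin 4 → (Fin l → ℤ) := fun j i =>
  if (i.val = 0 ∧ 1 ≤ j.val) ∨ (i.val = 2 ∧ 2 ≤ j.val) ∨ (i.val = 3 ∧ 3 ≤ j.val) then 1 else 0

def c3D : Fin 4 → (Fin 4 → ℤ) := ![![0, 0, 0, 0], ![1, 0, 0, 0], ![1, 1, 0, 0], ![1, 1, 1, 0]]

def c3F : Fin 4 → (Fin 4 → ℤ) := ![![0, 0, 0, 0], ![-2, -4, -3, -2], ![-2, -4, -3, -1], ![-2, -4, -2, -1]]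

theorem chk63 : ∀ i j : Fin 4, i < j → ∃ s < chevE6.nroots, vec chevE6 6 s = c3 6 j - c3 6 i := by decide +kernel

theorem chk73 : ∀ i j : Fin 4, i < j → ∃ s < chevE7.nroots, vec chevE7 7 s = c3 7 j - c3 7 i := by decide +kernel

theorem chk83 : ∀ i j : Fin 4, i < j → ∃ s < chevE8.nroots, vec chevE8 8 s = c3 8 j - c3 8 i := by decide +kernel

theorem chkD3 : ∀ i j : Fin 4, i < j → ∃ s < chevD4.nroots, vec chevD4 4 s = c3D j - c3D i := by decide +kernel

theorem chkF3 : ∀ i j : Fin 4, i < j → ∃ s < chevF4.nroots, vec chevF4 4 s = c3F j - c3F i := by decide +kernel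

theorem chkG3 : ∀ v ∈ ([![1, 0], ![0, 1], ![1, 1], ![2, 1]] : List (Fin 2 → ℤ)), ∃ s < chevG2.nroots,
    vec chevG2 2 s = v := by decide +kernel

/-- torus elements of order 3 of `G₂` are not regular -/
theorem exists_Sx_G2 (hp : IsType chevG2 2 CoxeterMatrix.G₂) {W : Type v} [Group W]
    (cs : CoxeterSystem CoxeterMatrix.G₂ W) {r : ℕ} [Fact r.Prime] [CharP k r] (hk : LocFin k)
    {t : ↥(chevG2.group k)} (ht : t ∈ TT chevG2 k) (htp : t ^ 3 = 1) :
    (Sx cs hp.isCartan (ch hp) t).Nonempty := by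
  obtain ⟨φ, h0, hadd, hφ⟩ := chAddL (k := k) hp cs hk r t ht
  have hR : ∀ v ∈ ([![1, 0], ![0, 1], ![1, 1], ![2, 1]] : List (Fin 2 → ℤ)), IsRoot cs hp.isCartan v :=
    fun v hv => (isRoot_iff hp cs v).2 (chkG3 v hv)
  have ha := hR ![1, 0] (by simp)
  have hb := hR ![0, 1] (by simp)
  have hab := hR ![1, 1] (by simp)
  have haab := hR ![2, 1] (by simp)
  have hchi : ∀ a, IsRoot cs hp.isCartan a → φ a ^ 3 = 1 := by
    intro a ha
    rw [← hφ a ha, ← ch_pow hp cs hk (r := r) ha ht, htp]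
    have := ch_pow hp cs hk (r := r) ha (one_mem (TT chevG2 k)) 0
    rwa [pow_zero, pow_zero] at this
  by_contra hcon
  have hne : ∀ a, IsRoot cs hp.isCartan a → φ a ≠ 1 := by
    intro a ha h1
    exact hcon ⟨a, ha, by rw [hφ a ha]; exact h1⟩
  have e1 : φ ![1, 1] = φ ![1, 0] * φ ![0, 1] := by
    rw [← hadd]
    congr 1
    decide
  have e2 : φ ![2, 1] = φ ![1, 0] * φ ![1, 1] := by
    rw [← hadd]
    congr 1
    decide
  have hx := hchi _ ha
  have hy := hchi _ hb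
  have hx1 := hne _ ha
  have hy1 := hne _ hb
  have hxy := hne _ hab
  have hxxy := hne _ haab
  rw [e1] at hxy e2
  rw [e2] at hxxy
  generalize φ ![1, 0] = x at *
  generalize φ ![0, 1] = y at *
  have h1 : x ^ 2 + x + 1 = 0 := by
    have : (x - 1) * (x ^ 2 + x + 1) = 0 := by linear_combination hx
    exact (mul_eq_zero.1 this).resolve_left (sub_ne_zero.2 hx1)
  have h2 : y ^ 2 + y + 1 = 0 := by
    have : (y - 1) * (y ^ 2 + y + 1) = 0 := by linear_combination hy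
    exact (mul_eq_zero.1 this).resolve_left (sub_ne_zero.2 hy1)
  have h3 : (y - x) * (x + y + 1) = 0 := by linear_combination h2 - h1
  rcases mul_eq_zero.1 h3 with h4 | h4
  · have h5 : y = x := sub_eq_zero.1 h4
    apply hxxy
    rw [h5]
    linear_combination hx
  · have h5 : y = x ^ 2 := by linear_combination h4 - h1
    apply hxy
    rw [h5]
    linear_combination hx

/-! ### the types -/

theorem prime_cases {p n : ℕ} (hpp : p.Prime) (h2 : p ≠ 2) {a b c d : ℕ} (hn : n = 2 ^ a * 3 ^ b * 5 ^ c * 7 ^ d)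
    (h : p ∣ n) : p = 3 ∨ (p = 5 ∧ c ≠ 0) ∨ (p = 7 ∧ d ≠ 0) := by
  rw [hn] at h
  have key : ∀ {q e : ℕ}, q.Prime → p ∣ q ^ e → p = q ∧ e ≠ 0 := by
    intro q e hq hd
    refine ⟨(Nat.prime_dvd_prime_iff_eq hpp hq).1 (hpp.dvd_of_dvd_pow hd), ?_⟩
    rintro rfl
    rw [pow_zero, Nat.dvd_one] at hd
    exact hpp.one_lt.ne' hd
  rcases hpp.dvd_mul.1 h with h | h
  · rcases hpp.dvd_mul.1 h with h | h
    · rcases hpp.dvd_mul.1 h with h | h
      · exact absurd (key Nat.prime_two h).1 h2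
      · exact Or.inl (key Nat.prime_three h).1
    · exact Or.inr (Or.inl (key Nat.prime_five h))
  · exact Or.inr (Or.inr (key Nat.prime_seven h))

variable {p : ℕ}

theorem nonReg_G2 (hp : IsType chevG2 2 CoxeterMatrix.G₂) (hpp : p.Prime) (hp2 : p ≠ 2) : NonReg hp p := by
  by_cases h : p ∣ Nat.card (CoxeterMatrix.G₂).Group
  · have h1 := S1092.result (⟨2, CoxeterMatrix.G₂⟩, 12) (by simp)
    dsimp only at h1
    rw [h1] at h
    rcases prime_cases hpp hp2 (a := 2) (b := 1) (c := 0) (d := 0) (by norm_num) h with rfl | h2 | h2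
    · exact Or.inr fun k _ r _ _ hk t ht htp => exists_Sx_G2 hp (CoxeterMatrix.G₂).toCoxeterSystem (r := r) hk ht htp
    · exact absurd rfl h2.2
    · exact absurd rfl h2.2
  · exact Or.inl h

theorem nonReg_D4 (hp : IsType chevD4 4 coxeterD4) (hpp : p.Prime) (hp2 : p ≠ 2) : NonReg hp p := by
  by_cases h : p ∣ Nat.card (coxeterD4).Group
  · have h1 := S1092.result (⟨4, coxeterD4⟩, 192) (by simp)
    dsimp only at h1
    rw [h1] at h
    rcases prime_cases hpp hp2 (a := 6) (b := 1) (c := 0) (d := 0) (by norm_num) h with rfl | h2 | h2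
    · exact nonReg_of_chain hp Nat.prime_three c3D chkD3
    · exact absurd rfl h2.2
    · exact absurd rfl h2.2
  · exact Or.inl h

theorem nonReg_F4 (hp : IsType chevF4 4 CoxeterMatrix.F₄) (hpp : p.Prime) (hp2 : p ≠ 2) : NonReg hp p := by
  by_cases h : p ∣ Nat.card (CoxeterMatrix.F₄).Group
  · have h1 := S1092.result (⟨4, CoxeterMatrix.F₄⟩, 1152) (by simp)
    dsimp only at h1
    rw [h1] at h
    rcases prime_cases hpp hp2 (a := 7) (b := 2) (c := 0) (d := 0) (by norm_num) h with rfl | h2 | h2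
    · exact nonReg_of_chain hp Nat.prime_three c3F chkF3
    · exact absurd rfl h2.2
    · exact absurd rfl h2.2
  · exact Or.inl h

theorem nonReg_E6 (hp : IsType chevE6 6 CoxeterMatrix.E₆) (hpp : p.Prime) (hp2 : p ≠ 2) : NonReg hp p := by
  by_cases h : p ∣ Nat.card (CoxeterMatrix.E₆).Group
  · have h1 := S1093.result (⟨6, CoxeterMatrix.E₆⟩, 51840) (by simp)
    dsimp only at h1
    rw [h1] at h
    rcases prime_cases hpp hp2 (a := 7) (b := 4) (c := 1) (d := 0) (by norm_num) h with rfl | ⟨rfl, -⟩ | h2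
    · exact nonReg_of_chain hp Nat.prime_three (c3 6) chk63
    · exact nonReg_of_chain hp Nat.prime_five (c5 6) chk6
    · exact absurd rfl h2.2
  · exact Or.inl h

theorem nonReg_E7 (hp : IsType chevE7 7 CoxeterMatrix.E₇) (hpp : p.Prime) (hp2 : p ≠ 2) : NonReg hp p := by
  by_cases h : p ∣ Nat.card (CoxeterMatrix.E₇).Group
  · have h1 := S1093.result (⟨7, CoxeterMatrix.E₇⟩, 2903040) (by simp)
    dsimp only at h1
    rw [h1] at h
    rcases prime_cases hpp hp2 (a := 10) (b := 4) (c := 1) (d := 1) (by norm_num) h with rfl | ⟨rfl, -⟩ | ⟨rfl, -⟩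
    · exact nonReg_of_chain hp Nat.prime_three (c3 7) chk73
    · exact nonReg_of_chain hp Nat.prime_five (c5 7) chk75
    · exact nonReg_of_chain hp Nat.prime_seven c7 chk77
  · exact Or.inl h

theorem nonReg_E8 (hp : IsType chevE8 8 CoxeterMatrix.E₈) (hpp : p.Prime) (hp2 : p ≠ 2) : NonReg hp p := by
  by_cases h : p ∣ Nat.card (CoxeterMatrix.E₈).Group
  · have h1 := S1093.result (⟨8, CoxeterMatrix.E₈⟩, 696729600) (by simp)
    dsimp only at h1
    rw [h1] at h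
    rcases prime_cases hpp hp2 (a := 14) (b := 5) (c := 2) (d := 1) (by norm_num) h with rfl | ⟨rfl, -⟩ | ⟨rfl, -⟩
    · exact nonReg_of_chain hp Nat.prime_three (c3 8) chk83
    · exact nonReg_of_chain hp Nat.prime_five (c5 8) chk85
    · exact nonReg_of_chain hp Nat.prime_seven c8 chk87
  · exact Or.inl h

end Cfsg.Agent.H469.Exc
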