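import Cfsg.Agent.H469.Exc.Model
import Cfsg.Prelude.Def_LieTypeChar

/-!
# (P3) for the exceptional groups

`P3 r X` : two commuting elements `a`, `b` of `X` with `a ^ p = b ^ p = 1`, `p` an odd prime, `p ≠ r`: one of the
elements `a`, `b a ^ i` commutes with an `r`-element `u ≠ 1`.

* `p3_of_chev`, `p3_of_tw`, `p3_of_exc` : `G₂(q)`, `F₄(q)`, `E₆(q)`, `E₇(q)`, `E₈(q)`, `²E₆(q)`, `³D₄(q)`, `q` a power of
  `r`;
* `P3.exists_mem` : the form for a subgroup `E` of order `p ^ 2` and exponent `p`.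
-/

set_option autoImplicit false

namespace Cfsg.Agent.H469.Exc

open Cfsg Cfsg.Lie Cfsg.Agent.Nodes.RGDChev Cfsg.Agent.BpTab Cfsg.Agent.BpExc

universe u

/-- two commuting elements of order `p ≠ r`: some product commutes with an `r`-element -/
def P3 (r : ℕ) (X : Type u) [Group X] : Prop :=
  ∀ p : ℕ, p.Prime → p ≠ 2 → p ≠ r → ∀ a b : X, a * b = b * a → a ^ p = 1 → b ^ p = 1 →
    ∃ c u : X, (c = a ∨ ∃ i : ℕ, c = b * a ^ i) ∧ u ≠ 1 ∧ (∃ j, u ^ r ^ j = 1) ∧ c * u = u * c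

theorem P3.of_model {D : ChevalleyDatum} {l : ℕ} {M : CoxeterMatrix (Fin l)} {hp : IsType D l M} (hl : 0 < l) {r : ℕ}
    [Fact r.Prime] {X : Type u} [Group X] (h : Model hp r X) (hreg : ∀ p : ℕ, p.Prime → p ≠ 2 → NonReg hp p) :
    P3 r X :=
  fun p hpp hp2 hpr _ _ hab ha hb => h.p3 hpp hpr (hreg p hpp hp2) hl hab ha hb

variable {r : ℕ} [hr : Fact r.Prime] {X : Type u} [Group X]

theorem p3_of_chev (h : IsExceptionalChevChar r X) : P3 r X := by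
  obtain ⟨F, _, _, _, h⟩ := h
  rcases h with ⟨-, ⟨e⟩⟩ | ⟨⟨e⟩⟩ | ⟨⟨e⟩⟩ | ⟨⟨e⟩⟩ | ⟨⟨e⟩⟩
  · exact P3.of_model (by norm_num) ((model_untw (r := r) RowsUntw.g2T F).congr e) fun p h1 h2 => nonReg_G2 _ h1 h2
  · exact P3.of_model (by norm_num) ((model_untw (r := r) RowsUntw.f4T F).congr e) fun p h1 h2 => nonReg_F4 _ h1 h2
  · exact P3.of_model (by norm_num) ((model_untw (r := r) RowsUntw.e6T F).congr e) fun p h1 h2 => nonReg_E6 _ h1 h2
  · exact P3.of_model (by norm_num) ((model_untw (r := r) RowsUntw.e7T F).congr e) fun p h1 h2 => nonReg_E7 _ h1 h2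
  · exact P3.of_model (by norm_num) ((model_untw (r := r) RowsUntw.e8T F).congr e) fun p h1 h2 => nonReg_E8 _ h1 h2

theorem p3_of_tw (h : IsTwistedE6D4Char r X) : P3 r X := by
  obtain ⟨K, _, _, _, q, hq, h⟩ := h
  rcases h with ⟨hK, ⟨e⟩⟩ | ⟨hK, ⟨e⟩⟩
  · exact P3.of_model (by norm_num) ((model_twE6 (r := r) hq hK).congr e) fun p h1 h2 => nonReg_E6 _ h1 h2
  · exact P3.of_model (by norm_num) ((model_twD4 (r := r) hq hK).congr e) fun p h1 h2 => nonReg_D4 _ h1 h2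

/-- **(P3)** -/
theorem p3_of_exc (h : IsExceptionalChevChar r X ∨ IsTwistedE6D4Char r X) : P3 r X :=
  h.elim p3_of_chev p3_of_tw

omit hr in
/-- **(P3)**, for a subgroup of order `p ^ 2` and exponent `p`. -/
theorem P3.exists_mem (h : P3 r X) {p : ℕ} (hpp : p.Prime) (hp2 : p ≠ 2) (hpr : p ≠ r) {E : Subgroup X}
    (hE : Nat.card E = p ^ 2) (hcomm : ∀ a ∈ E, ∀ b ∈ E, a * b = b * a) (hexp : ∀ a ∈ E, a ^ p = 1) :
    ∃ c ∈ E, c ≠ 1 ∧ ∃ u : X, u ≠ 1 ∧ (∃ j, u ^ r ^ j = 1) ∧ c * u = u * c := by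
  have hfin : Finite E := Nat.finite_of_card_ne_zero (by rw [hE]; exact (pow_pos hpp.pos 2).ne')
  obtain ⟨a, ha, ha1⟩ : ∃ a ∈ E, a ≠ 1 := by
    by_contra hcon
    push Not at hcon
    have h1 : E = ⊥ := by rw [eq_bot_iff]; exact fun x hx => Subgroup.mem_bot.2 (hcon x hx)
    rw [h1, Subgroup.card_bot] at hE
    exact absurd hE (one_lt_pow₀ hpp.one_lt two_ne_zero).ne
  obtain ⟨b, hb, hba⟩ : ∃ b ∈ E, b ∉ Subgroup.zpowers a := by
    by_contra hcon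
    push Not at hcon
    have h1 : E ≤ Subgroup.zpowers a := hcon
    have h2 : Nat.card E ∣ Nat.card (Subgroup.zpowers a) := Subgroup.card_dvd_of_le h1
    have h3 : Nat.card (Subgroup.zpowers a) = orderOf a := Nat.card_zpowers a
    have h4 : orderOf a ∣ p := orderOf_dvd_of_pow_eq_one (hexp a ha)
    rw [hE, h3] at h2
    have h5 := Nat.le_of_dvd hpp.pos (h2.trans h4)
    have h6 := hpp.one_lt
    nlinarith
  obtain ⟨c, u, hc, hu⟩ := h p hpp hp2 hpr a b (hcomm a ha b hb) (hexp a ha) (hexp b hb)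
  refine ⟨c, ?_, ?_, u, hu⟩
  · rcases hc with rfl | ⟨i, rfl⟩
    · exact ha
    · exact E.mul_mem hb (E.pow_mem ha i)
  · rcases hc with rfl | ⟨i, rfl⟩
    · exact ha1
    · intro h1
      apply hba
      rw [eq_inv_of_mul_eq_one_left h1]
      exact Subgroup.inv_mem _ (Subgroup.pow_mem _ (Subgroup.mem_zpowers a) i)

end Cfsg.Agent.H469.Exc
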